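import Cfsg.Agent.CosetEnum.Fi22O.Chain3

set_option autoImplicit false
set_option maxRecDepth 100000
set_option Elab.async false

/-! The coset action of `Cfsg.Spor.Fi22` on 14080 cosets. -/

namespace CfsgLib.CosetEnum.Fi22O

theorem full : B58 = 2 ^ (enum.n * CfsgLib.CosetEnum.Fi22.setup.k) - 1 := by decide +kernel

theorem fix0_0 : allR (fun i => bif Nat.blt i 14080 then Nat.beq (walk tb [0, 0] i) i else true) 14 0 = true := by decide +kernel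

theorem fix0 : fixesAll 14080 tb [0, 0] 14 = true :=
  fix0_0

theorem fix1_0 : allR (fun i => bif Nat.blt i 14080 then Nat.beq (walk tb [0, 1, 0, 1, 0, 1] i) i else true) 14 0 = true := by decide +kernel

theorem fix1 : fixesAll 14080 tb [0, 1, 0, 1, 0, 1] 14 = true :=
  fix1_0

theorem fix2_0 : allR (fun i => bif Nat.blt i 14080 then Nat.beq (walk tb [0, 2, 0, 2] i) i else true) 14 0 = true := by decide +kernel

theorem fix2 : fixesAll 14080 tb [0, 2, 0, 2] 14 = true :=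
  fix2_0

theorem fix3_0 : allR (fun i => bif Nat.blt i 14080 then Nat.beq (walk tb [0, 3, 0, 3] i) i else true) 14 0 = true := by decide +kernel

theorem fix3 : fixesAll 14080 tb [0, 3, 0, 3] 14 = true :=
  fix3_0

theorem fix4_0 : allR (fun i => bif Nat.blt i 14080 then Nat.beq (walk tb [0, 4, 0, 4] i) i else true) 14 0 = true := by decide +kernel

theorem fix4 : fixesAll 14080 tb [0, 4, 0, 4] 14 = true :=
  fix4_0

theorem fix5_0 : allR (fun i => bif Nat.blt i 14080 then Nat.beq (walk tb [0, 5, 0, 5] i) i else true) 14 0 = true := by decide +kernel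

theorem fix5 : fixesAll 14080 tb [0, 5, 0, 5] 14 = true :=
  fix5_0

theorem fix6_0 : allR (fun i => bif Nat.blt i 14080 then Nat.beq (walk tb [0, 6, 0, 6] i) i else true) 14 0 = true := by decide +kernel

theorem fix6 : fixesAll 14080 tb [0, 6, 0, 6] 14 = true :=
  fix6_0

theorem fix7_0 : allR (fun i => bif Nat.blt i 14080 then Nat.beq (walk tb [0, 7, 0, 7] i) i else true) 14 0 = true := by decide +kernel

theorem fix7 : fixesAll 14080 tb [0, 7, 0, 7] 14 = true :=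
  fix7_0

theorem fix8_0 : allR (fun i => bif Nat.blt i 14080 then Nat.beq (walk tb [0, 8, 0, 8] i) i else true) 14 0 = true := by decide +kernel

theorem fix8 : fixesAll 14080 tb [0, 8, 0, 8] 14 = true :=
  fix8_0

theorem fix9_0 : allR (fun i => bif Nat.blt i 14080 then Nat.beq (walk tb [1, 1] i) i else true) 14 0 = true := by decide +kernel

theorem fix9 : fixesAll 14080 tb [1, 1] 14 = true :=
  fix9_0

theorem fix10_0 : allR (fun i => bif Nat.blt i 14080 then Nat.beq (walk tb [1, 2, 1, 2, 1, 2] i) i else true) 14 0 = true := by decide +kernel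

theorem fix10 : fixesAll 14080 tb [1, 2, 1, 2, 1, 2] 14 = true :=
  fix10_0

theorem fix11_0 : allR (fun i => bif Nat.blt i 14080 then Nat.beq (walk tb [1, 3, 1, 3] i) i else true) 14 0 = true := by decide +kernel

theorem fix11 : fixesAll 14080 tb [1, 3, 1, 3] 14 = true :=
  fix11_0

theorem fix12_0 : allR (fun i => bif Nat.blt i 14080 then Nat.beq (walk tb [1, 4, 1, 4] i) i else true) 14 0 = true := by decide +kernel

theorem fix12 : fixesAll 14080 tb [1, 4, 1, 4] 14 = true :=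
  fix12_0

theorem fix13_0 : allR (fun i => bif Nat.blt i 14080 then Nat.beq (walk tb [1, 5, 1, 5] i) i else true) 14 0 = true := by decide +kernel

theorem fix13 : fixesAll 14080 tb [1, 5, 1, 5] 14 = true :=
  fix13_0

theorem fix14_0 : allR (fun i => bif Nat.blt i 14080 then Nat.beq (walk tb [1, 6, 1, 6] i) i else true) 14 0 = true := by decide +kernel

theorem fix14 : fixesAll 14080 tb [1, 6, 1, 6] 14 = true :=
  fix14_0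

theorem fix15_0 : allR (fun i => bif Nat.blt i 14080 then Nat.beq (walk tb [1, 7, 1, 7] i) i else true) 14 0 = true := by decide +kernel

theorem fix15 : fixesAll 14080 tb [1, 7, 1, 7] 14 = true :=
  fix15_0

theorem fix16_0 : allR (fun i => bif Nat.blt i 14080 then Nat.beq (walk tb [1, 8, 1, 8] i) i else true) 14 0 = true := by decide +kernel

theorem fix16 : fixesAll 14080 tb [1, 8, 1, 8] 14 = true :=
  fix16_0

theorem fix17_0 : allR (fun i => bif Nat.blt i 14080 then Nat.beq (walk tb [2, 2] i) i else true) 14 0 = true := by decide +kernel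

theorem fix17 : fixesAll 14080 tb [2, 2] 14 = true :=
  fix17_0

theorem fix18_0 : allR (fun i => bif Nat.blt i 14080 then Nat.beq (walk tb [2, 3, 2, 3, 2, 3] i) i else true) 14 0 = true := by decide +kernel

theorem fix18 : fixesAll 14080 tb [2, 3, 2, 3, 2, 3] 14 = true :=
  fix18_0

theorem fix19_0 : allR (fun i => bif Nat.blt i 14080 then Nat.beq (walk tb [2, 4, 2, 4] i) i else true) 14 0 = true := by decide +kernel

theorem fix19 : fixesAll 14080 tb [2, 4, 2, 4] 14 = true :=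
  fix19_0

theorem fix20_0 : allR (fun i => bif Nat.blt i 14080 then Nat.beq (walk tb [2, 5, 2, 5] i) i else true) 14 0 = true := by decide +kernel

theorem fix20 : fixesAll 14080 tb [2, 5, 2, 5] 14 = true :=
  fix20_0

theorem fix21_0 : allR (fun i => bif Nat.blt i 14080 then Nat.beq (walk tb [2, 6, 2, 6] i) i else true) 14 0 = true := by decide +kernel

theorem fix21 : fixesAll 14080 tb [2, 6, 2, 6] 14 = true :=
  fix21_0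

theorem fix22_0 : allR (fun i => bif Nat.blt i 14080 then Nat.beq (walk tb [2, 7, 2, 7] i) i else true) 14 0 = true := by decide +kernel

theorem fix22 : fixesAll 14080 tb [2, 7, 2, 7] 14 = true :=
  fix22_0

theorem fix23_0 : allR (fun i => bif Nat.blt i 14080 then Nat.beq (walk tb [2, 8, 2, 8] i) i else true) 14 0 = true := by decide +kernel

theorem fix23 : fixesAll 14080 tb [2, 8, 2, 8] 14 = true :=
  fix23_0

theorem fix24_0 : allR (fun i => bif Nat.blt i 14080 then Nat.beq (walk tb [3, 3] i) i else true) 14 0 = true := by decide +kernel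

theorem fix24 : fixesAll 14080 tb [3, 3] 14 = true :=
  fix24_0

theorem fix25_0 : allR (fun i => bif Nat.blt i 14080 then Nat.beq (walk tb [3, 4, 3, 4, 3, 4] i) i else true) 14 0 = true := by decide +kernel

theorem fix25 : fixesAll 14080 tb [3, 4, 3, 4, 3, 4] 14 = true :=
  fix25_0

theorem fix26_0 : allR (fun i => bif Nat.blt i 14080 then Nat.beq (walk tb [3, 5, 3, 5] i) i else true) 14 0 = true := by decide +kernel

theorem fix26 : fixesAll 14080 tb [3, 5, 3, 5] 14 = true :=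
  fix26_0

theorem fix27_0 : allR (fun i => bif Nat.blt i 14080 then Nat.beq (walk tb [3, 6, 3, 6] i) i else true) 14 0 = true := by decide +kernel

theorem fix27 : fixesAll 14080 tb [3, 6, 3, 6] 14 = true :=
  fix27_0

theorem fix28_0 : allR (fun i => bif Nat.blt i 14080 then Nat.beq (walk tb [3, 7, 3, 7, 3, 7] i) i else true) 14 0 = true := by decide +kernel

theorem fix28 : fixesAll 14080 tb [3, 7, 3, 7, 3, 7] 14 = true :=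
  fix28_0

theorem fix29_0 : allR (fun i => bif Nat.blt i 14080 then Nat.beq (walk tb [3, 8, 3, 8] i) i else true) 14 0 = true := by decide +kernel

theorem fix29 : fixesAll 14080 tb [3, 8, 3, 8] 14 = true :=
  fix29_0

theorem fix30_0 : allR (fun i => bif Nat.blt i 14080 then Nat.beq (walk tb [4, 4] i) i else true) 14 0 = true := by decide +kernel

theorem fix30 : fixesAll 14080 tb [4, 4] 14 = true :=
  fix30_0

theorem fix31_0 : allR (fun i => bif Nat.blt i 14080 then Nat.beq (walk tb [4, 5, 4, 5, 4, 5] i) i else true) 14 0 = true := by decide +kernel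

theorem fix31 : fixesAll 14080 tb [4, 5, 4, 5, 4, 5] 14 = true :=
  fix31_0

theorem fix32_0 : allR (fun i => bif Nat.blt i 14080 then Nat.beq (walk tb [4, 6, 4, 6] i) i else true) 14 0 = true := by decide +kernel

theorem fix32 : fixesAll 14080 tb [4, 6, 4, 6] 14 = true :=
  fix32_0

theorem fix33_0 : allR (fun i => bif Nat.blt i 14080 then Nat.beq (walk tb [4, 7, 4, 7] i) i else true) 14 0 = true := by decide +kernel

theorem fix33 : fixesAll 14080 tb [4, 7, 4, 7] 14 = true :=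
  fix33_0

theorem fix34_0 : allR (fun i => bif Nat.blt i 14080 then Nat.beq (walk tb [4, 8, 4, 8] i) i else true) 14 0 = true := by decide +kernel

theorem fix34 : fixesAll 14080 tb [4, 8, 4, 8] 14 = true :=
  fix34_0

theorem fix35_0 : allR (fun i => bif Nat.blt i 14080 then Nat.beq (walk tb [5, 5] i) i else true) 14 0 = true := by decide +kernel

theorem fix35 : fixesAll 14080 tb [5, 5] 14 = true :=
  fix35_0

theorem fix36_0 : allR (fun i => bif Nat.blt i 14080 then Nat.beq (walk tb [5, 6, 5, 6, 5, 6] i) i else true) 14 0 = true := by decide +kernel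

theorem fix36 : fixesAll 14080 tb [5, 6, 5, 6, 5, 6] 14 = true :=
  fix36_0

theorem fix37_0 : allR (fun i => bif Nat.blt i 14080 then Nat.beq (walk tb [5, 7, 5, 7] i) i else true) 14 0 = true := by decide +kernel

theorem fix37 : fixesAll 14080 tb [5, 7, 5, 7] 14 = true :=
  fix37_0

theorem fix38_0 : allR (fun i => bif Nat.blt i 14080 then Nat.beq (walk tb [5, 8, 5, 8] i) i else true) 14 0 = true := by decide +kernel

theorem fix38 : fixesAll 14080 tb [5, 8, 5, 8] 14 = true :=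
  fix38_0

theorem fix39_0 : allR (fun i => bif Nat.blt i 14080 then Nat.beq (walk tb [6, 6] i) i else true) 14 0 = true := by decide +kernel

theorem fix39 : fixesAll 14080 tb [6, 6] 14 = true :=
  fix39_0

theorem fix40_0 : allR (fun i => bif Nat.blt i 14080 then Nat.beq (walk tb [6, 7, 6, 7] i) i else true) 14 0 = true := by decide +kernel

theorem fix40 : fixesAll 14080 tb [6, 7, 6, 7] 14 = true :=
  fix40_0

theorem fix41_0 : allR (fun i => bif Nat.blt i 14080 then Nat.beq (walk tb [6, 8, 6, 8] i) i else true) 14 0 = true := by decide +kernel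

theorem fix41 : fixesAll 14080 tb [6, 8, 6, 8] 14 = true :=
  fix41_0

theorem fix42_0 : allR (fun i => bif Nat.blt i 14080 then Nat.beq (walk tb [7, 7] i) i else true) 14 0 = true := by decide +kernel

theorem fix42 : fixesAll 14080 tb [7, 7] 14 = true :=
  fix42_0

theorem fix43_0 : allR (fun i => bif Nat.blt i 14080 then Nat.beq (walk tb [7, 8, 7, 8, 7, 8] i) i else true) 14 0 = true := by decide +kernel

theorem fix43 : fixesAll 14080 tb [7, 8, 7, 8, 7, 8] 14 = true :=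
  fix43_0

theorem fix44_0 : allR (fun i => bif Nat.blt i 14080 then Nat.beq (walk tb [8, 8] i) i else true) 14 0 = true := by decide +kernel

theorem fix44 : fixesAll 14080 tb [8, 8] 14 = true :=
  fix44_0

theorem fix45_0 : allR (fun i => bif Nat.blt i 14080 then Nat.beq (walk tb [3, 2, 1, 3, 4, 5, 3, 7, 8, 3, 2, 1, 3, 4, 5, 3, 7, 8, 3, 2, 1, 3, 4, 5, 3, 7, 8, 3, 2, 1, 3, 4, 5, 3, 7, 8, 3, 2, 1, 3, 4, 5, 3, 7, 8, 3, 2, 1, 3, 4, 5, 3, 7, 8, 3, 2, 1, 3, 4, 5, 3, 7, 8, 3, 2, 1, 3, 4, 5, 3, 7, 8, 3, 2, 1, 3, 4, 5, 3, 7, 8, 3, 2, 1, 3, 4, 5, 3, 7, 8] i) i else true) 10 0 = true := by decide +kernel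

theorem fix45_1 : allR (fun i => bif Nat.blt i 14080 then Nat.beq (walk tb [3, 2, 1, 3, 4, 5, 3, 7, 8, 3, 2, 1, 3, 4, 5, 3, 7, 8, 3, 2, 1, 3, 4, 5, 3, 7, 8, 3, 2, 1, 3, 4, 5, 3, 7, 8, 3, 2, 1, 3, 4, 5, 3, 7, 8, 3, 2, 1, 3, 4, 5, 3, 7, 8, 3, 2, 1, 3, 4, 5, 3, 7, 8, 3, 2, 1, 3, 4, 5, 3, 7, 8, 3, 2, 1, 3, 4, 5, 3, 7, 8, 3, 2, 1, 3, 4, 5, 3, 7, 8] i) i else true) 10 1024 = true := by decide +kernel

theorem fix45_2 : allR (fun i => bif Nat.blt i 14080 then Nat.beq (walk tb [3, 2, 1, 3, 4, 5, 3, 7, 8, 3, 2, 1, 3, 4, 5, 3, 7, 8, 3, 2, 1, 3, 4, 5, 3, 7, 8, 3, 2, 1, 3, 4, 5, 3, 7, 8, 3, 2, 1, 3, 4, 5, 3, 7, 8, 3, 2, 1, 3, 4, 5, 3, 7, 8, 3, 2, 1, 3, 4, 5, 3, 7, 8, 3, 2, 1, 3, 4, 5, 3, 7, 8, 3, 2, 1, 3, 4, 5, 3, 7, 8, 3, 2, 1, 3, 4, 5, 3, 7, 8] i) i else true) 10 2048 = true := by decide +kernel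

theorem fix45_3 : allR (fun i => bif Nat.blt i 14080 then Nat.beq (walk tb [3, 2, 1, 3, 4, 5, 3, 7, 8, 3, 2, 1, 3, 4, 5, 3, 7, 8, 3, 2, 1, 3, 4, 5, 3, 7, 8, 3, 2, 1, 3, 4, 5, 3, 7, 8, 3, 2, 1, 3, 4, 5, 3, 7, 8, 3, 2, 1, 3, 4, 5, 3, 7, 8, 3, 2, 1, 3, 4, 5, 3, 7, 8, 3, 2, 1, 3, 4, 5, 3, 7, 8, 3, 2, 1, 3, 4, 5, 3, 7, 8, 3, 2, 1, 3, 4, 5, 3, 7, 8] i) i else true) 10 3072 = true := by decide +kernel

theorem fix45_4 : allR (fun i => bif Nat.blt i 14080 then Nat.beq (walk tb [3, 2, 1, 3, 4, 5, 3, 7, 8, 3, 2, 1, 3, 4, 5, 3, 7, 8, 3, 2, 1, 3, 4, 5, 3, 7, 8, 3, 2, 1, 3, 4, 5, 3, 7, 8, 3, 2, 1, 3, 4, 5, 3, 7, 8, 3, 2, 1, 3, 4, 5, 3, 7, 8, 3, 2, 1, 3, 4, 5, 3, 7, 8, 3, 2, 1, 3, 4, 5, 3, 7, 8, 3, 2, 1, 3, 4, 5, 3, 7, 8, 3, 2, 1, 3, 4, 5, 3, 7, 8] i) i else true) 10 4096 = true := by decide +kernel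

theorem fix45_5 : allR (fun i => bif Nat.blt i 14080 then Nat.beq (walk tb [3, 2, 1, 3, 4, 5, 3, 7, 8, 3, 2, 1, 3, 4, 5, 3, 7, 8, 3, 2, 1, 3, 4, 5, 3, 7, 8, 3, 2, 1, 3, 4, 5, 3, 7, 8, 3, 2, 1, 3, 4, 5, 3, 7, 8, 3, 2, 1, 3, 4, 5, 3, 7, 8, 3, 2, 1, 3, 4, 5, 3, 7, 8, 3, 2, 1, 3, 4, 5, 3, 7, 8, 3, 2, 1, 3, 4, 5, 3, 7, 8, 3, 2, 1, 3, 4, 5, 3, 7, 8] i) i else true) 10 5120 = true := by decide +kernel

theorem fix45_6 : allR (fun i => bif Nat.blt i 14080 then Nat.beq (walk tb [3, 2, 1, 3, 4, 5, 3, 7, 8, 3, 2, 1, 3, 4, 5, 3, 7, 8, 3, 2, 1, 3, 4, 5, 3, 7, 8, 3, 2, 1, 3, 4, 5, 3, 7, 8, 3, 2, 1, 3, 4, 5, 3, 7, 8, 3, 2, 1, 3, 4, 5, 3, 7, 8, 3, 2, 1, 3, 4, 5, 3, 7, 8, 3, 2, 1, 3, 4, 5, 3, 7, 8, 3, 2, 1, 3, 4, 5, 3, 7, 8, 3, 2, 1, 3, 4, 5, 3, 7, 8] i) i else true) 10 6144 = true := by decide +kernel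

theorem fix45_7 : allR (fun i => bif Nat.blt i 14080 then Nat.beq (walk tb [3, 2, 1, 3, 4, 5, 3, 7, 8, 3, 2, 1, 3, 4, 5, 3, 7, 8, 3, 2, 1, 3, 4, 5, 3, 7, 8, 3, 2, 1, 3, 4, 5, 3, 7, 8, 3, 2, 1, 3, 4, 5, 3, 7, 8, 3, 2, 1, 3, 4, 5, 3, 7, 8, 3, 2, 1, 3, 4, 5, 3, 7, 8, 3, 2, 1, 3, 4, 5, 3, 7, 8, 3, 2, 1, 3, 4, 5, 3, 7, 8, 3, 2, 1, 3, 4, 5, 3, 7, 8] i) i else true) 10 7168 = true := by decide +kernel

theorem fix45_8 : allR (fun i => bif Nat.blt i 14080 then Nat.beq (walk tb [3, 2, 1, 3, 4, 5, 3, 7, 8, 3, 2, 1, 3, 4, 5, 3, 7, 8, 3, 2, 1, 3, 4, 5, 3, 7, 8, 3, 2, 1, 3, 4, 5, 3, 7, 8, 3, 2, 1, 3, 4, 5, 3, 7, 8, 3, 2, 1, 3, 4, 5, 3, 7, 8, 3, 2, 1, 3, 4, 5, 3, 7, 8, 3, 2, 1, 3, 4, 5, 3, 7, 8, 3, 2, 1, 3, 4, 5, 3, 7, 8, 3, 2, 1, 3, 4, 5, 3, 7, 8] i) i else true) 10 8192 = true := by decide +kernel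

theorem fix45_9 : allR (fun i => bif Nat.blt i 14080 then Nat.beq (walk tb [3, 2, 1, 3, 4, 5, 3, 7, 8, 3, 2, 1, 3, 4, 5, 3, 7, 8, 3, 2, 1, 3, 4, 5, 3, 7, 8, 3, 2, 1, 3, 4, 5, 3, 7, 8, 3, 2, 1, 3, 4, 5, 3, 7, 8, 3, 2, 1, 3, 4, 5, 3, 7, 8, 3, 2, 1, 3, 4, 5, 3, 7, 8, 3, 2, 1, 3, 4, 5, 3, 7, 8, 3, 2, 1, 3, 4, 5, 3, 7, 8, 3, 2, 1, 3, 4, 5, 3, 7, 8] i) i else true) 10 9216 = true := by decide +kernel

theorem fix45_10 : allR (fun i => bif Nat.blt i 14080 then Nat.beq (walk tb [3, 2, 1, 3, 4, 5, 3, 7, 8, 3, 2, 1, 3, 4, 5, 3, 7, 8, 3, 2, 1, 3, 4, 5, 3, 7, 8, 3, 2, 1, 3, 4, 5, 3, 7, 8, 3, 2, 1, 3, 4, 5, 3, 7, 8, 3, 2, 1, 3, 4, 5, 3, 7, 8, 3, 2, 1, 3, 4, 5, 3, 7, 8, 3, 2, 1, 3, 4, 5, 3, 7, 8, 3, 2, 1, 3, 4, 5, 3, 7, 8, 3, 2, 1, 3, 4, 5, 3, 7, 8] i) i else true) 10 10240 = true := by decide +kernel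

theorem fix45_11 : allR (fun i => bif Nat.blt i 14080 then Nat.beq (walk tb [3, 2, 1, 3, 4, 5, 3, 7, 8, 3, 2, 1, 3, 4, 5, 3, 7, 8, 3, 2, 1, 3, 4, 5, 3, 7, 8, 3, 2, 1, 3, 4, 5, 3, 7, 8, 3, 2, 1, 3, 4, 5, 3, 7, 8, 3, 2, 1, 3, 4, 5, 3, 7, 8, 3, 2, 1, 3, 4, 5, 3, 7, 8, 3, 2, 1, 3, 4, 5, 3, 7, 8, 3, 2, 1, 3, 4, 5, 3, 7, 8, 3, 2, 1, 3, 4, 5, 3, 7, 8] i) i else true) 10 11264 = true := by decide +kernel

theorem fix45_12 : allR (fun i => bif Nat.blt i 14080 then Nat.beq (walk tb [3, 2, 1, 3, 4, 5, 3, 7, 8, 3, 2, 1, 3, 4, 5, 3, 7, 8, 3, 2, 1, 3, 4, 5, 3, 7, 8, 3, 2, 1, 3, 4, 5, 3, 7, 8, 3, 2, 1, 3, 4, 5, 3, 7, 8, 3, 2, 1, 3, 4, 5, 3, 7, 8, 3, 2, 1, 3, 4, 5, 3, 7, 8, 3, 2, 1, 3, 4, 5, 3, 7, 8, 3, 2, 1, 3, 4, 5, 3, 7, 8, 3, 2, 1, 3, 4, 5, 3, 7, 8] i) i else true) 10 12288 = true := by decide +kernel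

theorem fix45_13 : allR (fun i => bif Nat.blt i 14080 then Nat.beq (walk tb [3, 2, 1, 3, 4, 5, 3, 7, 8, 3, 2, 1, 3, 4, 5, 3, 7, 8, 3, 2, 1, 3, 4, 5, 3, 7, 8, 3, 2, 1, 3, 4, 5, 3, 7, 8, 3, 2, 1, 3, 4, 5, 3, 7, 8, 3, 2, 1, 3, 4, 5, 3, 7, 8, 3, 2, 1, 3, 4, 5, 3, 7, 8, 3, 2, 1, 3, 4, 5, 3, 7, 8, 3, 2, 1, 3, 4, 5, 3, 7, 8, 3, 2, 1, 3, 4, 5, 3, 7, 8] i) i else true) 10 13312 = true := by decide +kernel

theorem fix45_14 : allR (fun i => bif Nat.blt i 14080 then Nat.beq (walk tb [3, 2, 1, 3, 4, 5, 3, 7, 8, 3, 2, 1, 3, 4, 5, 3, 7, 8, 3, 2, 1, 3, 4, 5, 3, 7, 8, 3, 2, 1, 3, 4, 5, 3, 7, 8, 3, 2, 1, 3, 4, 5, 3, 7, 8, 3, 2, 1, 3, 4, 5, 3, 7, 8, 3, 2, 1, 3, 4, 5, 3, 7, 8, 3, 2, 1, 3, 4, 5, 3, 7, 8, 3, 2, 1, 3, 4, 5, 3, 7, 8, 3, 2, 1, 3, 4, 5, 3, 7, 8] i) i else true) 10 14336 = true := by decide +kernel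

theorem fix45_15 : allR (fun i => bif Nat.blt i 14080 then Nat.beq (walk tb [3, 2, 1, 3, 4, 5, 3, 7, 8, 3, 2, 1, 3, 4, 5, 3, 7, 8, 3, 2, 1, 3, 4, 5, 3, 7, 8, 3, 2, 1, 3, 4, 5, 3, 7, 8, 3, 2, 1, 3, 4, 5, 3, 7, 8, 3, 2, 1, 3, 4, 5, 3, 7, 8, 3, 2, 1, 3, 4, 5, 3, 7, 8, 3, 2, 1, 3, 4, 5, 3, 7, 8, 3, 2, 1, 3, 4, 5, 3, 7, 8, 3, 2, 1, 3, 4, 5, 3, 7, 8] i) i else true) 10 15360 = true := by decide +kernel

theorem fix45 : fixesAll 14080 tb [3, 2, 1, 3, 4, 5, 3, 7, 8, 3, 2, 1, 3, 4, 5, 3, 7, 8, 3, 2, 1, 3, 4, 5, 3, 7, 8, 3, 2, 1, 3, 4, 5, 3, 7, 8, 3, 2, 1, 3, 4, 5, 3, 7, 8, 3, 2, 1, 3, 4, 5, 3, 7, 8, 3, 2, 1, 3, 4, 5, 3, 7, 8, 3, 2, 1, 3, 4, 5, 3, 7, 8, 3, 2, 1, 3, 4, 5, 3, 7, 8, 3, 2, 1, 3, 4, 5, 3, 7, 8] 14 = true :=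
  (allR_join (d := 13) (lo := 0) (hi := 8192) (allR_join (d := 12) (lo := 0) (hi := 4096) (allR_join (d := 11) (lo := 0) (hi := 2048) (allR_join (d := 10) (lo := 0) (hi := 1024) fix45_0 (by decide +kernel) fix45_1) (by decide +kernel) (allR_join (d := 10) (lo := 2048) (hi := 3072) fix45_2 (by decide +kernel) fix45_3)) (by decide +kernel) (allR_join (d := 11) (lo := 4096) (hi := 6144) (allR_join (d := 10) (lo := 4096) (hi := 5120) fix45_4 (by decide +kernel) fix45_5) (by decide +kernel) (allR_join (d := 10) (lo := 6144) (hi := 7168) fix45_6 (by decide +kernel) fix45_7))) (by decide +kernel) (allR_join (d := 12) (lo := 8192) (hi := 12288) (allR_join (d := 11) (lo := 8192) (hi := 10240) (allR_join (d := 10) (lo := 8192) (hi := 9216) fix45_8 (by decide +kernel) fix45_9) (by decide +kernel) (allR_join (d := 10) (lo := 10240) (hi := 11264) fix45_10 (by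 decide +kernel) fix45_11)) (by decide +kernel) (allR_join (d := 11) (lo := 12288) (hi := 14336) (allR_join (d := 10) (lo := 12288) (hi := 13312) fix45_12 (by decide +kernel) fix45_13) (by decide +kernel) (allR_join (d := 10) (lo := 14336) (hi := 15360) fix45_14 (by decide +kernel) fix45_15))))

theorem fix46_0 : allR (fun i => bif Nat.blt i 14080 then Nat.beq (walk tb [0, 1, 2, 3, 4, 5, 7, 0, 1, 2, 3, 4, 5, 7, 0, 1, 2, 3, 4, 5, 7, 0, 1, 2, 3, 4, 5, 7, 0, 1, 2, 3, 4, 5, 7, 0, 1, 2, 3, 4, 5, 7, 0, 1, 2, 3, 4, 5, 7, 0, 1, 2, 3, 4, 5, 7, 0, 1, 2, 3, 4, 5, 7] i) i else true) 10 0 = true := by decide +kernel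

theorem fix46_1 : allR (fun i => bif Nat.blt i 14080 then Nat.beq (walk tb [0, 1, 2, 3, 4, 5, 7, 0, 1, 2, 3, 4, 5, 7, 0, 1, 2, 3, 4, 5, 7, 0, 1, 2, 3, 4, 5, 7, 0, 1, 2, 3, 4, 5, 7, 0, 1, 2, 3, 4, 5, 7, 0, 1, 2, 3, 4, 5, 7, 0, 1, 2, 3, 4, 5, 7, 0, 1, 2, 3, 4, 5, 7] i) i else true) 10 1024 = true := by decide +kernel

theorem fix46_2 : allR (fun i => bif Nat.blt i 14080 then Nat.beq (walk tb [0, 1, 2, 3, 4, 5, 7, 0, 1, 2, 3, 4, 5, 7, 0, 1, 2, 3, 4, 5, 7, 0, 1, 2, 3, 4, 5, 7, 0, 1, 2, 3, 4, 5, 7, 0, 1, 2, 3, 4, 5, 7, 0, 1, 2, 3, 4, 5, 7, 0, 1, 2, 3, 4, 5, 7, 0, 1, 2, 3, 4, 5, 7] i) i else true) 10 2048 = true := by decide +kernel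

theorem fix46_3 : allR (fun i => bif Nat.blt i 14080 then Nat.beq (walk tb [0, 1, 2, 3, 4, 5, 7, 0, 1, 2, 3, 4, 5, 7, 0, 1, 2, 3, 4, 5, 7, 0, 1, 2, 3, 4, 5, 7, 0, 1, 2, 3, 4, 5, 7, 0, 1, 2, 3, 4, 5, 7, 0, 1, 2, 3, 4, 5, 7, 0, 1, 2, 3, 4, 5, 7, 0, 1, 2, 3, 4, 5, 7] i) i else true) 10 3072 = true := by decide +kernel

theorem fix46_4 : allR (fun i => bif Nat.blt i 14080 then Nat.beq (walk tb [0, 1, 2, 3, 4, 5, 7, 0, 1, 2, 3, 4, 5, 7, 0, 1, 2, 3, 4, 5, 7, 0, 1, 2, 3, 4, 5, 7, 0, 1, 2, 3, 4, 5, 7, 0, 1, 2, 3, 4, 5, 7, 0, 1, 2, 3, 4, 5, 7, 0, 1, 2, 3, 4, 5, 7, 0, 1, 2, 3, 4, 5, 7] i) i else true) 10 4096 = true := by decide +kernel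

theorem fix46_5 : allR (fun i => bif Nat.blt i 14080 then Nat.beq (walk tb [0, 1, 2, 3, 4, 5, 7, 0, 1, 2, 3, 4, 5, 7, 0, 1, 2, 3, 4, 5, 7, 0, 1, 2, 3, 4, 5, 7, 0, 1, 2, 3, 4, 5, 7, 0, 1, 2, 3, 4, 5, 7, 0, 1, 2, 3, 4, 5, 7, 0, 1, 2, 3, 4, 5, 7, 0, 1, 2, 3, 4, 5, 7] i) i else true) 10 5120 = true := by decide +kernel

theorem fix46_6 : allR (fun i => bif Nat.blt i 14080 then Nat.beq (walk tb [0, 1, 2, 3, 4, 5, 7, 0, 1, 2, 3, 4, 5, 7, 0, 1, 2, 3, 4, 5, 7, 0, 1, 2, 3, 4, 5, 7, 0, 1, 2, 3, 4, 5, 7, 0, 1, 2, 3, 4, 5, 7, 0, 1, 2, 3, 4, 5, 7, 0, 1, 2, 3, 4, 5, 7, 0, 1, 2, 3, 4, 5, 7] i) i else true) 10 6144 = true := by decide +kernel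

theorem fix46_7 : allR (fun i => bif Nat.blt i 14080 then Nat.beq (walk tb [0, 1, 2, 3, 4, 5, 7, 0, 1, 2, 3, 4, 5, 7, 0, 1, 2, 3, 4, 5, 7, 0, 1, 2, 3, 4, 5, 7, 0, 1, 2, 3, 4, 5, 7, 0, 1, 2, 3, 4, 5, 7, 0, 1, 2, 3, 4, 5, 7, 0, 1, 2, 3, 4, 5, 7, 0, 1, 2, 3, 4, 5, 7] i) i else true) 10 7168 = true := by decide +kernel

theorem fix46_8 : allR (fun i => bif Nat.blt i 14080 then Nat.beq (walk tb [0, 1, 2, 3, 4, 5, 7, 0, 1, 2, 3, 4, 5, 7, 0, 1, 2, 3, 4, 5, 7, 0, 1, 2, 3, 4, 5, 7, 0, 1, 2, 3, 4, 5, 7, 0, 1, 2, 3, 4, 5, 7, 0, 1, 2, 3, 4, 5, 7, 0, 1, 2, 3, 4, 5, 7, 0, 1, 2, 3, 4, 5, 7] i) i else true) 10 8192 = true := by decide +kernel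

theorem fix46_9 : allR (fun i => bif Nat.blt i 14080 then Nat.beq (walk tb [0, 1, 2, 3, 4, 5, 7, 0, 1, 2, 3, 4, 5, 7, 0, 1, 2, 3, 4, 5, 7, 0, 1, 2, 3, 4, 5, 7, 0, 1, 2, 3, 4, 5, 7, 0, 1, 2, 3, 4, 5, 7, 0, 1, 2, 3, 4, 5, 7, 0, 1, 2, 3, 4, 5, 7, 0, 1, 2, 3, 4, 5, 7] i) i else true) 10 9216 = true := by decide +kernel

theorem fix46_10 : allR (fun i => bif Nat.blt i 14080 then Nat.beq (walk tb [0, 1, 2, 3, 4, 5, 7, 0, 1, 2, 3, 4, 5, 7, 0, 1, 2, 3, 4, 5, 7, 0, 1, 2, 3, 4, 5, 7, 0, 1, 2, 3, 4, 5, 7, 0, 1, 2, 3, 4, 5, 7, 0, 1, 2, 3, 4, 5, 7, 0, 1, 2, 3, 4, 5, 7, 0, 1, 2, 3, 4, 5, 7] i) i else true) 10 10240 = true := by decide +kernel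

theorem fix46_11 : allR (fun i => bif Nat.blt i 14080 then Nat.beq (walk tb [0, 1, 2, 3, 4, 5, 7, 0, 1, 2, 3, 4, 5, 7, 0, 1, 2, 3, 4, 5, 7, 0, 1, 2, 3, 4, 5, 7, 0, 1, 2, 3, 4, 5, 7, 0, 1, 2, 3, 4, 5, 7, 0, 1, 2, 3, 4, 5, 7, 0, 1, 2, 3, 4, 5, 7, 0, 1, 2, 3, 4, 5, 7] i) i else true) 10 11264 = true := by decide +kernel

theorem fix46_12 : allR (fun i => bif Nat.blt i 14080 then Nat.beq (walk tb [0, 1, 2, 3, 4, 5, 7, 0, 1, 2, 3, 4, 5, 7, 0, 1, 2, 3, 4, 5, 7, 0, 1, 2, 3, 4, 5, 7, 0, 1, 2, 3, 4, 5, 7, 0, 1, 2, 3, 4, 5, 7, 0, 1, 2, 3, 4, 5, 7, 0, 1, 2, 3, 4, 5, 7, 0, 1, 2, 3, 4, 5, 7] i) i else true) 10 12288 = true := by decide +kernel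

theorem fix46_13 : allR (fun i => bif Nat.blt i 14080 then Nat.beq (walk tb [0, 1, 2, 3, 4, 5, 7, 0, 1, 2, 3, 4, 5, 7, 0, 1, 2, 3, 4, 5, 7, 0, 1, 2, 3, 4, 5, 7, 0, 1, 2, 3, 4, 5, 7, 0, 1, 2, 3, 4, 5, 7, 0, 1, 2, 3, 4, 5, 7, 0, 1, 2, 3, 4, 5, 7, 0, 1, 2, 3, 4, 5, 7] i) i else true) 10 13312 = true := by decide +kernel

theorem fix46_14 : allR (fun i => bif Nat.blt i 14080 then Nat.beq (walk tb [0, 1, 2, 3, 4, 5, 7, 0, 1, 2, 3, 4, 5, 7, 0, 1, 2, 3, 4, 5, 7, 0, 1, 2, 3, 4, 5, 7, 0, 1, 2, 3, 4, 5, 7, 0, 1, 2, 3, 4, 5, 7, 0, 1, 2, 3, 4, 5, 7, 0, 1, 2, 3, 4, 5, 7, 0, 1, 2, 3, 4, 5, 7] i) i else true) 10 14336 = true := by decide +kernel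

theorem fix46_15 : allR (fun i => bif Nat.blt i 14080 then Nat.beq (walk tb [0, 1, 2, 3, 4, 5, 7, 0, 1, 2, 3, 4, 5, 7, 0, 1, 2, 3, 4, 5, 7, 0, 1, 2, 3, 4, 5, 7, 0, 1, 2, 3, 4, 5, 7, 0, 1, 2, 3, 4, 5, 7, 0, 1, 2, 3, 4, 5, 7, 0, 1, 2, 3, 4, 5, 7, 0, 1, 2, 3, 4, 5, 7] i) i else true) 10 15360 = true := by decide +kernel

theorem fix46 : fixesAll 14080 tb [0, 1, 2, 3, 4, 5, 7, 0, 1, 2, 3, 4, 5, 7, 0, 1, 2, 3, 4, 5, 7, 0, 1, 2, 3, 4, 5, 7, 0, 1, 2, 3, 4, 5, 7, 0, 1, 2, 3, 4, 5, 7, 0, 1, 2, 3, 4, 5, 7, 0, 1, 2, 3, 4, 5, 7, 0, 1, 2, 3, 4, 5, 7] 14 = true :=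
  (allR_join (d := 13) (lo := 0) (hi := 8192) (allR_join (d := 12) (lo := 0) (hi := 4096) (allR_join (d := 11) (lo := 0) (hi := 2048) (allR_join (d := 10) (lo := 0) (hi := 1024) fix46_0 (by decide +kernel) fix46_1) (by decide +kernel) (allR_join (d := 10) (lo := 2048) (hi := 3072) fix46_2 (by decide +kernel) fix46_3)) (by decide +kernel) (allR_join (d := 11) (lo := 4096) (hi := 6144) (allR_join (d := 10) (lo := 4096) (hi := 5120) fix46_4 (by decide +kernel) fix46_5) (by decide +kernel) (allR_join (d := 10) (lo := 6144) (hi := 7168) fix46_6 (by decide +kernel) fix46_7))) (by decide +kernel) (allR_join (d := 12) (lo := 8192) (hi := 12288) (allR_join (d := 11) (lo := 8192) (hi := 10240) (allR_join (d := 10) (lo := 8192) (hi := 9216) fix46_8 (by decide +kernel) fix46_9) (by decide +kernel) (allR_join (d := 10) (lo := 10240) (hi := 11264) fix46_10 (by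 decide +kernel) fix46_11)) (by decide +kernel) (allR_join (d := 11) (lo := 12288) (hi := 14336) (allR_join (d := 10) (lo := 12288) (hi := 13312) fix46_12 (by decide +kernel) fix46_13) (by decide +kernel) (allR_join (d := 10) (lo := 14336) (hi := 15360) fix46_14 (by decide +kernel) fix46_15))))

theorem fix47_0 : allR (fun i => bif Nat.blt i 14080 then Nat.beq (walk tb [1, 2, 3, 4, 5, 6, 7, 1, 2, 3, 4, 5, 6, 7, 1, 2, 3, 4, 5, 6, 7, 1, 2, 3, 4, 5, 6, 7, 1, 2, 3, 4, 5, 6, 7, 1, 2, 3, 4, 5, 6, 7, 1, 2, 3, 4, 5, 6, 7, 1, 2, 3, 4, 5, 6, 7, 1, 2, 3, 4, 5, 6, 7] i) i else true) 10 0 = true := by decide +kernel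

theorem fix47_1 : allR (fun i => bif Nat.blt i 14080 then Nat.beq (walk tb [1, 2, 3, 4, 5, 6, 7, 1, 2, 3, 4, 5, 6, 7, 1, 2, 3, 4, 5, 6, 7, 1, 2, 3, 4, 5, 6, 7, 1, 2, 3, 4, 5, 6, 7, 1, 2, 3, 4, 5, 6, 7, 1, 2, 3, 4, 5, 6, 7, 1, 2, 3, 4, 5, 6, 7, 1, 2, 3, 4, 5, 6, 7] i) i else true) 10 1024 = true := by decide +kernel

theorem fix47_2 : allR (fun i => bif Nat.blt i 14080 then Nat.beq (walk tb [1, 2, 3, 4, 5, 6, 7, 1, 2, 3, 4, 5, 6, 7, 1, 2, 3, 4, 5, 6, 7, 1, 2, 3, 4, 5, 6, 7, 1, 2, 3, 4, 5, 6, 7, 1, 2, 3, 4, 5, 6, 7, 1, 2, 3, 4, 5, 6, 7, 1, 2, 3, 4, 5, 6, 7, 1, 2, 3, 4, 5, 6, 7] i) i else true) 10 2048 = true := by decide +kernel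

theorem fix47_3 : allR (fun i => bif Nat.blt i 14080 then Nat.beq (walk tb [1, 2, 3, 4, 5, 6, 7, 1, 2, 3, 4, 5, 6, 7, 1, 2, 3, 4, 5, 6, 7, 1, 2, 3, 4, 5, 6, 7, 1, 2, 3, 4, 5, 6, 7, 1, 2, 3, 4, 5, 6, 7, 1, 2, 3, 4, 5, 6, 7, 1, 2, 3, 4, 5, 6, 7, 1, 2, 3, 4, 5, 6, 7] i) i else true) 10 3072 = true := by decide +kernel

theorem fix47_4 : allR (fun i => bif Nat.blt i 14080 then Nat.beq (walk tb [1, 2, 3, 4, 5, 6, 7, 1, 2, 3, 4, 5, 6, 7, 1, 2, 3, 4, 5, 6, 7, 1, 2, 3, 4, 5, 6, 7, 1, 2, 3, 4, 5, 6, 7, 1, 2, 3, 4, 5, 6, 7, 1, 2, 3, 4, 5, 6, 7, 1, 2, 3, 4, 5, 6, 7, 1, 2, 3, 4, 5, 6, 7] i) i else true) 10 4096 = true := by decide +kernel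

theorem fix47_5 : allR (fun i => bif Nat.blt i 14080 then Nat.beq (walk tb [1, 2, 3, 4, 5, 6, 7, 1, 2, 3, 4, 5, 6, 7, 1, 2, 3, 4, 5, 6, 7, 1, 2, 3, 4, 5, 6, 7, 1, 2, 3, 4, 5, 6, 7, 1, 2, 3, 4, 5, 6, 7, 1, 2, 3, 4, 5, 6, 7, 1, 2, 3, 4, 5, 6, 7, 1, 2, 3, 4, 5, 6, 7] i) i else true) 10 5120 = true := by decide +kernel

theorem fix47_6 : allR (fun i => bif Nat.blt i 14080 then Nat.beq (walk tb [1, 2, 3, 4, 5, 6, 7, 1, 2, 3, 4, 5, 6, 7, 1, 2, 3, 4, 5, 6, 7, 1, 2, 3, 4, 5, 6, 7, 1, 2, 3, 4, 5, 6, 7, 1, 2, 3, 4, 5, 6, 7, 1, 2, 3, 4, 5, 6, 7, 1, 2, 3, 4, 5, 6, 7, 1, 2, 3, 4, 5, 6, 7] i) i else true) 10 6144 = true := by decide +kernel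

theorem fix47_7 : allR (fun i => bif Nat.blt i 14080 then Nat.beq (walk tb [1, 2, 3, 4, 5, 6, 7, 1, 2, 3, 4, 5, 6, 7, 1, 2, 3, 4, 5, 6, 7, 1, 2, 3, 4, 5, 6, 7, 1, 2, 3, 4, 5, 6, 7, 1, 2, 3, 4, 5, 6, 7, 1, 2, 3, 4, 5, 6, 7, 1, 2, 3, 4, 5, 6, 7, 1, 2, 3, 4, 5, 6, 7] i) i else true) 10 7168 = true := by decide +kernel

theorem fix47_8 : allR (fun i => bif Nat.blt i 14080 then Nat.beq (walk tb [1, 2, 3, 4, 5, 6, 7, 1, 2, 3, 4, 5, 6, 7, 1, 2, 3, 4, 5, 6, 7, 1, 2, 3, 4, 5, 6, 7, 1, 2, 3, 4, 5, 6, 7, 1, 2, 3, 4, 5, 6, 7, 1, 2, 3, 4, 5, 6, 7, 1, 2, 3, 4, 5, 6, 7, 1, 2, 3, 4, 5, 6, 7] i) i else true) 10 8192 = true := by decide +kernel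

theorem fix47_9 : allR (fun i => bif Nat.blt i 14080 then Nat.beq (walk tb [1, 2, 3, 4, 5, 6, 7, 1, 2, 3, 4, 5, 6, 7, 1, 2, 3, 4, 5, 6, 7, 1, 2, 3, 4, 5, 6, 7, 1, 2, 3, 4, 5, 6, 7, 1, 2, 3, 4, 5, 6, 7, 1, 2, 3, 4, 5, 6, 7, 1, 2, 3, 4, 5, 6, 7, 1, 2, 3, 4, 5, 6, 7] i) i else true) 10 9216 = true := by decide +kernel

theorem fix47_10 : allR (fun i => bif Nat.blt i 14080 then Nat.beq (walk tb [1, 2, 3, 4, 5, 6, 7, 1, 2, 3, 4, 5, 6, 7, 1, 2, 3, 4, 5, 6, 7, 1, 2, 3, 4, 5, 6, 7, 1, 2, 3, 4, 5, 6, 7, 1, 2, 3, 4, 5, 6, 7, 1, 2, 3, 4, 5, 6, 7, 1, 2, 3, 4, 5, 6, 7, 1, 2, 3, 4, 5, 6, 7] i) i else true) 10 10240 = true := by decide +kernel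

theorem fix47_11 : allR (fun i => bif Nat.blt i 14080 then Nat.beq (walk tb [1, 2, 3, 4, 5, 6, 7, 1, 2, 3, 4, 5, 6, 7, 1, 2, 3, 4, 5, 6, 7, 1, 2, 3, 4, 5, 6, 7, 1, 2, 3, 4, 5, 6, 7, 1, 2, 3, 4, 5, 6, 7, 1, 2, 3, 4, 5, 6, 7, 1, 2, 3, 4, 5, 6, 7, 1, 2, 3, 4, 5, 6, 7] i) i else true) 10 11264 = true := by decide +kernel

theorem fix47_12 : allR (fun i => bif Nat.blt i 14080 then Nat.beq (walk tb [1, 2, 3, 4, 5, 6, 7, 1, 2, 3, 4, 5, 6, 7, 1, 2, 3, 4, 5, 6, 7, 1, 2, 3, 4, 5, 6, 7, 1, 2, 3, 4, 5, 6, 7, 1, 2, 3, 4, 5, 6, 7, 1, 2, 3, 4, 5, 6, 7, 1, 2, 3, 4, 5, 6, 7, 1, 2, 3, 4, 5, 6, 7] i) i else true) 10 12288 = true := by decide +kernel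

theorem fix47_13 : allR (fun i => bif Nat.blt i 14080 then Nat.beq (walk tb [1, 2, 3, 4, 5, 6, 7, 1, 2, 3, 4, 5, 6, 7, 1, 2, 3, 4, 5, 6, 7, 1, 2, 3, 4, 5, 6, 7, 1, 2, 3, 4, 5, 6, 7, 1, 2, 3, 4, 5, 6, 7, 1, 2, 3, 4, 5, 6, 7, 1, 2, 3, 4, 5, 6, 7, 1, 2, 3, 4, 5, 6, 7] i) i else true) 10 13312 = true := by decide +kernel

theorem fix47_14 : allR (fun i => bif Nat.blt i 14080 then Nat.beq (walk tb [1, 2, 3, 4, 5, 6, 7, 1, 2, 3, 4, 5, 6, 7, 1, 2, 3, 4, 5, 6, 7, 1, 2, 3, 4, 5, 6, 7, 1, 2, 3, 4, 5, 6, 7, 1, 2, 3, 4, 5, 6, 7, 1, 2, 3, 4, 5, 6, 7, 1, 2, 3, 4, 5, 6, 7, 1, 2, 3, 4, 5, 6, 7] i) i else true) 10 14336 = true := by decide +kernel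

theorem fix47_15 : allR (fun i => bif Nat.blt i 14080 then Nat.beq (walk tb [1, 2, 3, 4, 5, 6, 7, 1, 2, 3, 4, 5, 6, 7, 1, 2, 3, 4, 5, 6, 7, 1, 2, 3, 4, 5, 6, 7, 1, 2, 3, 4, 5, 6, 7, 1, 2, 3, 4, 5, 6, 7, 1, 2, 3, 4, 5, 6, 7, 1, 2, 3, 4, 5, 6, 7, 1, 2, 3, 4, 5, 6, 7] i) i else true) 10 15360 = true := by decide +kernel

theorem fix47 : fixesAll 14080 tb [1, 2, 3, 4, 5, 6, 7, 1, 2, 3, 4, 5, 6, 7, 1, 2, 3, 4, 5, 6, 7, 1, 2, 3, 4, 5, 6, 7, 1, 2, 3, 4, 5, 6, 7, 1, 2, 3, 4, 5, 6, 7, 1, 2, 3, 4, 5, 6, 7, 1, 2, 3, 4, 5, 6, 7, 1, 2, 3, 4, 5, 6, 7] 14 = true :=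
  (allR_join (d := 13) (lo := 0) (hi := 8192) (allR_join (d := 12) (lo := 0) (hi := 4096) (allR_join (d := 11) (lo := 0) (hi := 2048) (allR_join (d := 10) (lo := 0) (hi := 1024) fix47_0 (by decide +kernel) fix47_1) (by decide +kernel) (allR_join (d := 10) (lo := 2048) (hi := 3072) fix47_2 (by decide +kernel) fix47_3)) (by decide +kernel) (allR_join (d := 11) (lo := 4096) (hi := 6144) (allR_join (d := 10) (lo := 4096) (hi := 5120) fix47_4 (by decide +kernel) fix47_5) (by decide +kernel) (allR_join (d := 10) (lo := 6144) (hi := 7168) fix47_6 (by decide +kernel) fix47_7))) (by decide +kernel) (allR_join (d := 12) (lo := 8192) (hi := 12288) (allR_join (d := 11) (lo := 8192) (hi := 10240) (allR_join (d := 10) (lo := 8192) (hi := 9216) fix47_8 (by decide +kernel) fix47_9) (by decide +kernel) (allR_join (d := 10) (lo := 10240) (hi := 11264) fix47_10 (by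 decide +kernel) fix47_11)) (by decide +kernel) (allR_join (d := 11) (lo := 12288) (hi := 14336) (allR_join (d := 10) (lo := 12288) (hi := 13312) fix47_12 (by decide +kernel) fix47_13) (by decide +kernel) (allR_join (d := 10) (lo := 14336) (hi := 15360) fix47_14 (by decide +kernel) fix47_15))))

theorem valid_0 : allR (validEntry 14080 9 tb id) 11 0 = true := by decide +kernel

theorem valid_1 : allR (validEntry 14080 9 tb id) 11 2048 = true := by decide +kernel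

theorem valid_2 : allR (validEntry 14080 9 tb id) 11 4096 = true := by decide +kernel

theorem valid_3 : allR (validEntry 14080 9 tb id) 11 6144 = true := by decide +kernel

theorem valid_4 : allR (validEntry 14080 9 tb id) 11 8192 = true := by decide +kernel

theorem valid_5 : allR (validEntry 14080 9 tb id) 11 10240 = true := by decide +kernel

theorem valid_6 : allR (validEntry 14080 9 tb id) 11 12288 = true := by decide +kernel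

theorem valid_7 : allR (validEntry 14080 9 tb id) 11 14336 = true := by decide +kernel

theorem valid : allR (validEntry 14080 9 tb id) 14 0 = true :=
  (allR_join (d := 13) (lo := 0) (hi := 8192) (allR_join (d := 12) (lo := 0) (hi := 4096) (allR_join (d := 11) (lo := 0) (hi := 2048) valid_0 (by decide +kernel) valid_1) (by decide +kernel) (allR_join (d := 11) (lo := 4096) (hi := 6144) valid_2 (by decide +kernel) valid_3)) (by decide +kernel) (allR_join (d := 12) (lo := 8192) (hi := 12288) (allR_join (d := 11) (lo := 8192) (hi := 10240) valid_4 (by decide +kernel) valid_5) (by decide +kernel) (allR_join (d := 11) (lo := 12288) (hi := 14336) valid_6 (by decide +kernel) valid_7)))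

theorem treeValid_0 : allR (treeOK 14080 9 tb parN parX) 14 0 = true := by decide +kernel

theorem treeValid : allR (treeOK 14080 9 tb parN parX) 14 0 = true :=
  treeValid_0

theorem fixes : CfsgLib.CosetEnum.Fi22.words.all (fun w => fixesAll 14080 tb w 14) = true := by
  simp only [CfsgLib.CosetEnum.Fi22.words, List.all_cons, List.all_nil, Bool.and_self, fix0, fix1, fix2, fix3, fix4, fix5, fix6, fix7, fix8, fix9, fix10, fix11, fix12, fix13, fix14, fix15, fix16, fix17, fix18, fix19, fix20, fix21, fix22, fix23, fix24, fix25, fix26, fix27, fix28, fix29, fix30, fix31, fix32, fix33, fix34, fix35, fix36, fix37, fix38, fix39, fix40, fix41, fix42, fix43, fix44, fix45, fix46, fix47]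

theorem fixesZero : sW.all (fun w => Nat.beq (walk tb w 0) 0) = true := by decide +kernel

noncomputable instance neZero : NeZero enum.n := ⟨by decide +kernel⟩

theorem action :
    ∃ (φ : CfsgLib.CosetEnum.Fi22.setup.Grp →* Equiv.Perm (Fin enum.n))
      (e : CfsgLib.CosetEnum.Fi22.setup.Grp ⧸ enum.H ≃ Fin enum.n),
      (∀ (w : List ℕ), (∀ x ∈ w, x < CfsgLib.CosetEnum.Fi22.setup.k) → ∀ i : Fin enum.n,
        ((φ (prodw CfsgLib.CosetEnum.Fi22.setup.g w))⁻¹ i).val = walk enum.tb w i) ∧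
      (∀ (y : CfsgLib.CosetEnum.Fi22.setup.Grp) (q : CfsgLib.CosetEnum.Fi22.setup.Grp ⧸ enum.H),
        e (y • q) = φ y (e q)) ∧
      e ((1 : CfsgLib.CosetEnum.Fi22.setup.Grp) : CfsgLib.CosetEnum.Fi22.setup.Grp ⧸ enum.H) = 0 :=
  enum.exists_action 14 B58 (by decide +kernel) (by decide +kernel) good58 full valid treeValid fixes fixesZero

end CfsgLib.CosetEnum.Fi22O
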