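import Cfsg.Agent.CosetEnum.Fi22O.Action

set_option autoImplicit false
set_option maxRecDepth 100000
set_option exponentiation.threshold 200000

/-! The subgroup and its orbits on 14080 cosets in `Cfsg.Spor.Fi22`. -/

namespace CfsgLib.CosetEnum.Fi22O

open Cfsg.Spor

/-- The subgroup generators as free-group elements. -/
def subs : List (FreeGroup Fi22.Gen) := [Fi22.b, Fi22.c, Fi22.d, Fi22.e, Fi22.f, Fi22.g, Fi22.h, Fi22.i]

theorem sW_eq (K : Type) [Group K] (f : Fi22.Gen → K) (hf : ∀ a, f a * f a = 1) :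
    subs.map (FreeGroup.lift f) = sW.map (prodw (f ∘ CfsgLib.CosetEnum.Fi22.en)) := by
  have _ := hf
  simp [subs, sW, prodw, CfsgLib.CosetEnum.Fi22.en, pow_succ, mul_assoc]

theorem H_eq : CfsgLib.CosetEnum.Fi22.setup.sub {w | w ∈ subs} = enum.H :=
  CfsgLib.CosetEnum.Fi22.setup.sub_eq subs sW sW_eq

end CfsgLib.CosetEnum.Fi22O
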